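import Groth.Agent.KProjRes.Basic
import Groth.Prelude.Def_DDual2
import Mathlib.CategoryTheory.Functor.Derived.PointwiseLeftDerived
import Mathlib.Algebra.Homology.DerivedCategory.KProjective

/-!
# Left derived functors at K-projective complexes
-/

set_option autoImplicit false

universe v₁ v₂ v₃ u₁ u₂ u₃ u

open CategoryTheory Limits CategoryTheory.Functor

noncomputable section

namespace Groth.Agent.KProjRes

section General

variable {C : Type u₁} [Category.{v₁} C] {D : Type u₂} [Category.{v₂} D] {H : Type u₃} [Category.{v₃} H]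
  (L : C ⥤ D)

/-- `F` can be left derived at `P` -/
structure DerivableAtL (F : C ⥤ H) (P : C) : Prop where
  surj : ∀ (Y : C) (φ : L.obj P ⟶ L.obj Y), ∃ a : P ⟶ Y, L.map a = φ
  inj : ∀ (Y : C) (a b : P ⟶ Y), L.map a = L.map b → F.map a = F.map b

variable {L} {F : C ⥤ H}

lemma exists_cone {P : C} (h : DerivableAtL L F P) :
    ∃ a : ∀ j : StructuredArrow (L.obj P) L, P ⟶ j.right,
      (∀ j, L.map (a j) = j.hom) ∧ F.map (a (StructuredArrow.mk (𝟙 (L.obj P)))) = 𝟙 (F.obj P) ∧
        ∀ (i j : StructuredArrow (L.obj P) L) (g : i ⟶ j), F.map (a i) ≫ F.map g.right = F.map (a j) := by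
  choose a ha using fun j : StructuredArrow (L.obj P) L => h.surj _ j.hom
  refine ⟨a, ha, ?_, fun i j g => ?_⟩
  · rw [← F.map_id]; exact h.inj _ _ _ ((ha _).trans (L.map_id P).symm)
  · rw [← F.map_comp]
    exact h.inj _ _ _ (by rw [L.map_comp, ha, ha]; exact StructuredArrow.w g)

theorem hasPointwiseAtL {P : C} (h : DerivableAtL L F P) : HasPointwiseRightKanExtensionAt L F (L.obj P) := by
  obtain ⟨a, ha, ha1, hnat⟩ := exists_cone h
  let c : Cone (StructuredArrow.proj (L.obj P) L ⋙ F) :=
    { pt := F.obj P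
      π := { app := fun j => F.map (a j)
             naturality := fun i j g => (Category.id_comp _).trans (hnat i j g).symm } }
  exact ⟨⟨c,
    { lift := fun s => s.π.app (StructuredArrow.mk (𝟙 (L.obj P)))
      fac := fun s j => s.w (StructuredArrow.homMk (a j) (by simp [ha]) : StructuredArrow.mk (𝟙 (L.obj P)) ⟶ j)
      uniq := fun s m hm => by
        rw [← hm (StructuredArrow.mk (𝟙 (L.obj P)))]
        exact ((congrArg (m ≫ ·) ha1).trans (Category.comp_id m)).symm }⟩⟩

theorem isIso_hom_appL {E : RightExtension L F} {P : C} (h : DerivableAtL L F P)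
    (hE : E.IsPointwiseRightKanExtensionAt (L.obj P)) : IsIso (E.hom.app P) := by
  obtain ⟨a, ha, ha1, hnat⟩ := exists_cone h
  let c : Cone (StructuredArrow.proj (L.obj P) L ⋙ F) :=
    { pt := F.obj P
      π := { app := fun j => F.map (a j)
             naturality := fun i j g => (Category.id_comp _).trans (hnat i j g).symm } }
  have h1 := hE.fac c (StructuredArrow.mk (𝟙 (L.obj P)))
  have e1 : E.left.map (𝟙 (L.obj P)) ≫ E.hom.app P = E.hom.app P := by
    rw [CategoryTheory.Functor.map_id]; exact Category.id_comp _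
  refine ⟨hE.lift c, hE.hom_ext fun j => ?_, (congrArg (hE.lift c ≫ ·) e1).symm.trans (h1.trans ha1)⟩
  refine Eq.trans ?_ (Category.id_comp _).symm
  refine (Category.assoc _ _ _).trans ((congrArg (E.hom.app P ≫ ·) (hE.fac c j)).trans ?_)
  exact (E.hom.naturality (a j)).symm.trans (congrArg (· ≫ E.hom.app j.right) (congrArg E.left.map (ha j)))

variable {W : MorphismProperty C} [L.IsLocalization W]

theorem hasPointwiseLeftDerived (hP : ∀ Y : D, ∃ P : C, DerivableAtL L F P ∧ Nonempty (L.obj P ≅ Y)) :
    F.HasPointwiseLeftDerivedFunctor W := by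
  intro X
  rw [F.hasPointwiseLeftDerivedFunctorAt_iff L W]
  obtain ⟨P, h, ⟨e⟩⟩ := hP (L.obj X)
  rw [← hasPointwiseRightKanExtensionAt_iff_of_iso L F e]
  exact hasPointwiseAtL h

/-- the counit of a left derived functor is invertible at derivable objects -/
theorem isIso_app_of_derivableL (hP : ∀ Y : D, ∃ P : C, DerivableAtL L F P ∧ Nonempty (L.obj P ≅ Y))
    (LF : D ⥤ H) (α : L ⋙ LF ⟶ F) [LF.IsLeftDerivedFunctor α W] {P : C} (h : DerivableAtL L F P) :
    IsIso (α.app P) :=
  haveI := hasPointwiseLeftDerived (W := W) hP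
  isIso_hom_appL (E := RightExtension.mk LF α) h
    (Functor.isPointwiseRightKanExtensionOfHasPointwiseLeftDerivedFunctor LF (α := α) W (L.obj P))

end General

section ModuleCat

attribute [local instance] HasDerivedCategory.standard

variable {A : Type u} [CommRing A] {H : Type u₂} [Category.{v₂} H]

theorem derivableAtL_Qh (F : HomotopyCategory (ModuleCat.{u} A) (ComplexShape.up ℤ) ⥤ H)
    (P : CochainComplex (ModuleCat.{u} A) ℤ) [P.IsKProjective] :
    DerivableAtL DerivedCategory.Qh F ((HomotopyCategory.quotient _ _).obj P) where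
  surj Y φ := (CochainComplex.IsKProjective.Qh_map_bijective P Y).surjective φ
  inj Y a b h := congrArg F.map ((CochainComplex.IsKProjective.Qh_map_bijective P Y).injective h)

/-- every object of `D(A)` is represented by a K-projective complex of projectives -/
theorem exists_kProjective_iso (Y : DerivedCategory (ModuleCat.{u} A)) :
    ∃ P : CochainComplex (ModuleCat.{u} A) ℤ, P.IsKProjective ∧ (∀ n, Projective (P.X n)) ∧
      Nonempty (DerivedCategory.Q.obj P ≅ Y) := by
  obtain ⟨P, f, hP, hproj, hf⟩ := exists_kProjective (DerivedCategory.Q.objPreimage Y)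
  haveI := hf
  haveI : IsIso (DerivedCategory.Q.map f) := inferInstance
  exact ⟨P, hP, hproj, ⟨asIso (DerivedCategory.Q.map f) ≪≫ DerivedCategory.Q.objObjPreimageIso Y⟩⟩

theorem exists_derivable_QhL (F : HomotopyCategory (ModuleCat.{u} A) (ComplexShape.up ℤ) ⥤ H)
    (Y : DerivedCategory (ModuleCat.{u} A)) :
    ∃ X, DerivableAtL DerivedCategory.Qh F X ∧ Nonempty (DerivedCategory.Qh.obj X ≅ Y) := by
  obtain ⟨P, hP, _, ⟨e⟩⟩ := exists_kProjective_iso Y
  exact ⟨_, derivableAtL_Qh F P, ⟨(DerivedCategory.quotientCompQhIso (ModuleCat.{u} A)).app P ≪≫ e⟩⟩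

variable {B : Type u} [CommRing B] (φ : A →+* B)

theorem hasPointwiseLeftDerived_baseChange :
    (DRing.baseChangeKh φ).HasPointwiseLeftDerivedFunctor
      (HomotopyCategory.quasiIso (ModuleCat.{u} A) (ComplexShape.up ℤ)) :=
  hasPointwiseLeftDerived (L := DerivedCategory.Qh) fun Y => exists_derivable_QhL (DRing.baseChangeKh φ) Y

theorem hasLBaseChange : DRing.HasLBaseChange φ :=
  haveI := hasPointwiseLeftDerived_baseChange φ
  Functor.hasLeftDerivedFunctor_of_hasPointwiseLeftDerivedFunctor _ _

/-- derived base change of a K-projective complex is computed termwise -/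
def lBaseChangeIso [DRing.HasLBaseChange φ] (P : CochainComplex (ModuleCat.{u} A) ℤ) [P.IsKProjective] :
    (DRing.LBaseChange φ).obj (DerivedCategory.Q.obj P) ≅
      DerivedCategory.Q.obj (((ModuleCat.extendScalars φ).mapHomologicalComplex (ComplexShape.up ℤ)).obj P) :=
  haveI := isIso_app_of_derivableL (W := HomotopyCategory.quasiIso (ModuleCat.{u} A) (ComplexShape.up ℤ))
    (exists_derivable_QhL (DRing.baseChangeKh φ)) (DRing.LBaseChange φ)
    ((DRing.baseChangeKh φ).totalLeftDerivedCounit DerivedCategory.Qh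
      (HomotopyCategory.quasiIso (ModuleCat.{u} A) (ComplexShape.up ℤ))) (derivableAtL_Qh (DRing.baseChangeKh φ) P)
  (DRing.LBaseChange φ).mapIso ((DerivedCategory.quotientCompQhIso (ModuleCat.{u} A)).symm.app P) ≪≫
    asIso (((DRing.baseChangeKh φ).totalLeftDerivedCounit DerivedCategory.Qh
      (HomotopyCategory.quasiIso (ModuleCat.{u} A) (ComplexShape.up ℤ))).app ((HomotopyCategory.quotient _ _).obj P)) ≪≫
    DerivedCategory.Qh.mapIso (((ModuleCat.extendScalars φ).mapHomotopyCategoryFactors (ComplexShape.up ℤ)).app P) ≪≫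
    (DerivedCategory.quotientCompQhIso (ModuleCat.{u} B)).app _

lemma lBaseChangeIso_naturality [DRing.HasLBaseChange φ] {P P' : CochainComplex (ModuleCat.{u} A) ℤ}
    [P.IsKProjective] [P'.IsKProjective] (f : P ⟶ P') :
    (DRing.LBaseChange φ).map (DerivedCategory.Q.map f) ≫ (lBaseChangeIso φ P').hom =
      (lBaseChangeIso φ P).hom ≫
        DerivedCategory.Q.map (((ModuleCat.extendScalars φ).mapHomologicalComplex (ComplexShape.up ℤ)).map f) := by
  haveI := isIso_app_of_derivableL (W := HomotopyCategory.quasiIso (ModuleCat.{u} A) (ComplexShape.up ℤ))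
    (exists_derivable_QhL (DRing.baseChangeKh φ)) (DRing.LBaseChange φ)
    ((DRing.baseChangeKh φ).totalLeftDerivedCounit DerivedCategory.Qh
      (HomotopyCategory.quasiIso (ModuleCat.{u} A) (ComplexShape.up ℤ))) (derivableAtL_Qh (DRing.baseChangeKh φ) P')
  simp only [lBaseChangeIso, Iso.trans_hom, Functor.mapIso_hom, Iso.app_hom, Iso.symm_hom, asIso_hom, Category.assoc]
  rw [← Functor.map_comp_assoc]
  erw [(DerivedCategory.quotientCompQhIso (ModuleCat.{u} A)).inv.naturality f]
  rw [Functor.map_comp_assoc]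
  congr 1
  erw [((DRing.baseChangeKh φ).totalLeftDerivedCounit DerivedCategory.Qh
      (HomotopyCategory.quasiIso (ModuleCat.{u} A) (ComplexShape.up ℤ))).naturality_assoc ((HomotopyCategory.quotient _ _).map f)]
  congr 1
  change DerivedCategory.Qh.map (((ModuleCat.extendScalars.{u, u, u} φ).mapHomotopyCategory (ComplexShape.up ℤ)).map ((HomotopyCategory.quotient _ _).map f)) ≫ _ = _
  rw [← Functor.map_comp_assoc]
  erw [((ModuleCat.extendScalars φ).mapHomotopyCategoryFactors (ComplexShape.up ℤ)).hom.naturality f]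
  rw [Functor.map_comp_assoc]
  congr 1

end ModuleCat

end Groth.Agent.KProjRes
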