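import Groth.Agent.KProjRes.Derived
import Groth.Agent.KInjRes.DerivedCat
import Mathlib.CategoryTheory.Functor.Derived.Adjunction

/-!
# Derived base change is left adjoint to restriction
-/

set_option autoImplicit false

universe v₁ v₂ v₃ u₁ u₂ u₃ u

open CategoryTheory Limits CategoryTheory.Functor

noncomputable section

namespace Groth.Agent.KProjRes

section General

variable {C : Type u₁} [Category.{v₁} C] {D : Type u₂} [Category.{v₂} D] {H : Type u₃} [Category.{v₃} H]
  {L : C ⥤ D} {F : C ⥤ H}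

/-- an extension whose counit is invertible at `P` is pointwise at `L P` -/
def isPointwiseAtL (E : RightExtension L F) (P : C)
    (hP : ∀ (Y : C) (φ : L.obj P ⟶ L.obj Y), ∃ a : P ⟶ Y, L.map a = φ)
    [hiso : IsIso (E.hom.app P)] : E.IsPointwiseRightKanExtensionAt (L.obj P) where
  lift s := s.π.app (StructuredArrow.mk (𝟙 (L.obj P))) ≫ @CategoryTheory.inv _ _ _ _ (E.hom.app P) hiso
  fac s j := by
    obtain ⟨a, ha⟩ := hP _ j.hom
    have h1 := s.w (StructuredArrow.homMk (f := StructuredArrow.mk (𝟙 (L.obj P))) a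
      (by simp [ha]) : StructuredArrow.mk (𝟙 (L.obj P)) ⟶ j)
    have h2 := E.hom.naturality a
    change E.left.map (L.map a) ≫ E.hom.app j.right = E.hom.app P ≫ F.map a at h2
    refine Eq.trans ?_ h1
    show (s.π.app (StructuredArrow.mk (𝟙 (L.obj P))) ≫ @CategoryTheory.inv _ _ _ _ (E.hom.app P) hiso) ≫
        E.left.map j.hom ≫ E.hom.app j.right = s.π.app (StructuredArrow.mk (𝟙 (L.obj P))) ≫ F.map a
    rw [show E.left.map j.hom = E.left.map (L.map a) from congrArg _ ha.symm]
    refine (congrArg (_ ≫ ·) h2).trans ((Category.assoc _ _ _).trans ?_)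
    exact congrArg (_ ≫ ·) (IsIso.inv_hom_id_assoc (E.hom.app P) (I := hiso) _)
  uniq s m hm := by
    have h := hm (StructuredArrow.mk (𝟙 (L.obj P)))
    have e1 : E.left.map (𝟙 (L.obj P)) ≫ E.hom.app P = E.hom.app P := by
      rw [CategoryTheory.Functor.map_id]; exact Category.id_comp _
    refine (Eq.trans ?_ (congrArg (· ≫ @CategoryTheory.inv _ _ _ _ (E.hom.app P) hiso) h))
    exact ((Category.assoc _ _ _).trans ((congrArg (m ≫ ·) ((congrArg (· ≫ _) e1).trans
      (IsIso.hom_inv_id (E.hom.app P) (I := hiso)))).trans (Category.comp_id m))).symm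

variable {W : MorphismProperty C} [L.IsLocalization W]

/-- criterion for being a left derived functor -/
theorem isLeftDerived_of_isIso_app (LF : D ⥤ H) (α : L ⋙ LF ⟶ F)
    (hP : ∀ Y : D, ∃ P : C, (∀ (X : C) (φ : L.obj P ⟶ L.obj X), ∃ a : P ⟶ X, L.map a = φ) ∧
      IsIso (α.app P) ∧ Nonempty (L.obj P ≅ Y)) :
    LF.IsLeftDerivedFunctor α W := by
  have hE : (RightExtension.mk LF α).IsPointwiseRightKanExtension := fun Y => by
    choose P hs hiso e using hP
    haveI : IsIso ((RightExtension.mk LF α).hom.app (P Y)) := hiso Y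
    exact (RightExtension.mk LF α).isPointwiseRightKanExtensionAtEquivOfIso' (e Y).some
      (isPointwiseAtL (RightExtension.mk LF α) (P Y) (hs Y))
  exact ⟨hE.isRightKanExtension⟩

end General

section ModuleCat

attribute [local instance] HasDerivedCategory.standard

variable {A B : Type u} [CommRing A] [CommRing B] (φ : A →+* B)

theorem nonempty_adjunction [DRing.HasLBaseChange φ] : Nonempty (DRing.LBaseChange φ ⊣ DRing.restrictD φ) := by
  let W₁ := HomotopyCategory.quasiIso (ModuleCat.{u} A) (ComplexShape.up ℤ)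
  let W₂ := HomotopyCategory.quasiIso (ModuleCat.{u} B) (ComplexShape.up ℤ)
  let G' := DRing.LBaseChange φ
  let F' := DRing.restrictD φ
  let α := (DRing.baseChangeKh φ).totalLeftDerivedCounit DerivedCategory.Qh W₁
  let e := (ModuleCat.restrictScalars.{u} φ).mapDerivedCategoryFactorsh
  haveI : F'.IsRightDerivedFunctor e.inv W₂ :=
    Functor.isRightDerivedFunctor_of_inverts W₂ F' e
  haveI : (G' ⋙ F').IsLeftDerivedFunctor ((Functor.associator _ _ _).inv ≫ whiskerRight α F') W₁ := by
    refine isLeftDerived_of_isIso_app _ _ fun Y => ?_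
    obtain ⟨P, hP, hiso⟩ := exists_derivable_QhL (DRing.baseChangeKh φ) Y
    refine ⟨P, hP.surj, ?_, hiso⟩
    haveI := isIso_app_of_derivableL (W := W₁) (exists_derivable_QhL (DRing.baseChangeKh φ)) G' α hP
    simp only [NatTrans.comp_app, whiskerRight_app, Functor.associator_inv_app]
    infer_instance
  haveI : (F' ⋙ G').IsRightDerivedFunctor (whiskerRight e.inv G' ≫ (Functor.associator _ _ _).hom) W₂ :=
    Functor.isRightDerivedFunctor_of_inverts W₂ (F' ⋙ G')
      ((Functor.associator _ _ _).symm ≪≫ isoWhiskerRight e G')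
  exact ⟨(Groth.Agent.KInjRes.mapKAdj (ModuleCat.extendRestrictScalarsAdj.{u, u, u} φ) (ComplexShape.up ℤ)).derived
    W₁ W₂ α e.inv⟩

end ModuleCat

end Groth.Agent.KProjRes
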