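import Mathlib.Algebra.Homology.HomotopyCategory.KProjective
import Mathlib.Algebra.Category.ModuleCat.Abelian
import Mathlib.Algebra.Homology.ShortComplex.ModuleCat
import Mathlib.LinearAlgebra.Finsupp.LinearCombination
import Mathlib.LinearAlgebra.FreeModule.Basic
import Mathlib.Algebra.Category.ModuleCat.Projective

/-!
# K-projective (semi-free) resolutions of arbitrary complexes of modules
-/

set_option autoImplicit false

universe u

open CategoryTheory Finsupp

noncomputable section

namespace Groth.Agent.KProjRes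

variable {A : Type u} [CommRing A] (K : CochainComplex (ModuleCat.{u} A) ℤ)

/-- a free complex on given generators with a map to `K` -/
structure Stage where
  Gen : ℤ → Type u
  d : ∀ n, Gen n → (Gen (n + 1) →₀ A)
  f : ∀ n, Gen n → K.X n
  d_d : ∀ n e, linearCombination A (d (n + 1)) (d n e) = 0
  comm : ∀ n e, linearCombination A (f (n + 1)) (d n e) = (K.d n (n + 1)).hom (f n e)

/-- generators on the cycles -/
def init : Stage K where
  Gen n := LinearMap.ker (K.d n (n + 1)).hom
  d _ _ := 0
  f _ e := e.1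
  d_d _ _ := map_zero _
  comm _ e := (map_zero _).trans e.2.symm

variable {K}

/-- cycles whose image is a boundary -/
abbrev New (S : Stage K) (n : ℤ) : Type u :=
  {p : (S.Gen (n + 1) →₀ A) × K.X n //
    linearCombination A (S.d (n + 1)) p.1 = 0 ∧ linearCombination A (S.f (n + 1)) p.1 = (K.d n (n + 1)).hom p.2}

lemma lc_mapDomain {α β : Type u} {M N : Type u} [AddCommGroup M] [Module A M] [AddCommGroup N] [Module A N]
    (ι : α → β) (v : β → M) (w : α → N) (φ : N →ₗ[A] M) (h : ∀ a, v (ι a) = φ (w a)) (x : α →₀ A) :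
    linearCombination A v (mapDomain ι x) = φ (linearCombination A w x) := by
  induction x using Finsupp.induction_linear with
  | zero => simp
  | add x y hx hy => rw [mapDomain_add, map_add, hx, hy, map_add, map_add]
  | single a r => rw [mapDomain_single, linearCombination_single, linearCombination_single, map_smul, h]

/-- killing those cycles -/
def step (S : Stage K) : Stage K where
  Gen n := S.Gen n ⊕ New S n
  d n e := mapDomain Sum.inl (Sum.elim (S.d n) (fun p => p.1.1) e)
  f n := Sum.elim (S.f n) (fun p => p.1.2)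
  d_d n e := by
    refine (lc_mapDomain Sum.inl _ (S.d (n + 1)) (lmapDomain A A Sum.inl) (fun _ => rfl) _).trans ?_
    cases e with
    | inl e => exact (congrArg _ (S.d_d n e)).trans (map_zero _)
    | inr p => exact (congrArg _ p.2.1).trans (map_zero _)
  comm n e := by
    refine (lc_mapDomain Sum.inl _ (S.f (n + 1)) LinearMap.id (fun _ => rfl) _).trans ?_
    cases e with
    | inl e => exact S.comm n e
    | inr p => exact p.2.2

variable (K)

/-- the stages -/
def stage : ℕ → Stage K
  | 0 => init K
  | k + 1 => step (stage k)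

/-- all generators -/
def Gen (n : ℤ) : Type u := (init K).Gen n ⊕ Σ k, New (stage K k) n

/-- inclusion of the generators of a stage -/
def incl : ∀ (k : ℕ) (n : ℤ), (stage K k).Gen n → Gen K n
  | 0, _, e => Sum.inl e
  | k + 1, n, Sum.inl e => incl k n e
  | k + 1, _, Sum.inr p => Sum.inr ⟨k, p⟩

/-- the differential on generators -/
def dGen (n : ℤ) : Gen K n → (Gen K (n + 1) →₀ A)
  | Sum.inl _ => 0
  | Sum.inr ⟨k, p⟩ => mapDomain (incl K k (n + 1)) p.1.1

/-- the augmentation on generators -/
def fGen (n : ℤ) : Gen K n → K.X n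
  | Sum.inl e => e.1
  | Sum.inr ⟨_, p⟩ => p.1.2

/-- the new generators of a stage -/
def gNew {n : ℤ} (k : ℕ) (p : New (stage K k) n) : Gen K n := Sum.inr ⟨k, p⟩

/-- the initial generators -/
def gInit {n : ℤ} (w : K.X n) (hw : (K.d n (n + 1)).hom w = 0) : Gen K n := Sum.inl ⟨w, hw⟩

lemma mapDomain_incl_inl (k : ℕ) (n : ℤ) (x : (stage K k).Gen n →₀ A) :
    mapDomain (incl K (k + 1) n) (mapDomain Sum.inl x) = mapDomain (incl K k n) x := mapDomain_comp.symm

lemma dGen_incl : ∀ (k : ℕ) (n : ℤ) (e : (stage K k).Gen n),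
    dGen K n (incl K k n e) = mapDomain (incl K k (n + 1)) ((stage K k).d n e)
  | 0, _, _ => mapDomain_zero.symm
  | k + 1, n, Sum.inl e => (dGen_incl k n e).trans (mapDomain_incl_inl K k (n + 1) _).symm
  | k + 1, n, Sum.inr _ => (mapDomain_incl_inl K k (n + 1) _).symm

lemma fGen_incl : ∀ (k : ℕ) (n : ℤ) (e : (stage K k).Gen n), fGen K n (incl K k n e) = (stage K k).f n e
  | 0, _, _ => rfl
  | k + 1, n, Sum.inl e => fGen_incl k n e
  | _ + 1, _, Sum.inr _ => rfl

lemma incl_injective : ∀ (k : ℕ) (n : ℤ), Function.Injective (incl K k n)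
  | 0, _ => Sum.inl_injective
  | k + 1, n => by
    have key : ∀ (j : ℕ) (e : (stage K j).Gen n) (l : ℕ) (p : New (stage K l) n), j ≤ l → incl K j n e ≠ Sum.inr ⟨l, p⟩ := by
      intro j
      induction j with
      | zero => intro e l p _ h; exact Sum.inl_ne_inr h
      | succ j ih =>
        rintro (e | q) l p hl h
        · exact ih e l p (by omega) h
        · have := congrArg Sigma.fst (Sum.inr_injective h)
          simp only at this
          omega
    rintro (a | p) (b | q) h
    · exact congrArg Sum.inl (incl_injective k n h)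
    · exact absurd h (key k a k q le_rfl)
    · exact absurd h.symm (key k b k p le_rfl)
    · exact congrArg Sum.inr (sigma_mk_injective (β := fun k => New (stage K k) n) (Sum.inr_injective h))

lemma exists_gen (n : ℤ) : ∀ g : Gen K n, ∃ (k : ℕ) (e : (stage K k).Gen n), incl K k n e = g
  | Sum.inl e => ⟨0, e, rfl⟩
  | Sum.inr ⟨k, p⟩ => ⟨k + 1, Sum.inr p, rfl⟩

lemma lift_le {k l : ℕ} (h : k ≤ l) (n : ℤ) (x : (stage K k).Gen n →₀ A) :
    ∃ y : (stage K l).Gen n →₀ A, mapDomain (incl K l n) y = mapDomain (incl K k n) x := by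
  induction h with
  | refl => exact ⟨x, rfl⟩
  | @step l _ ih =>
    obtain ⟨y, hy⟩ := ih
    exact ⟨mapDomain Sum.inl y, (mapDomain_incl_inl K l n y).trans hy⟩

lemma exists_rep (n : ℤ) (v : Gen K n →₀ A) :
    ∃ (k : ℕ) (x : (stage K k).Gen n →₀ A), mapDomain (incl K k n) x = v := by
  induction v using Finsupp.induction_linear with
  | zero => exact ⟨0, 0, mapDomain_zero⟩
  | add v w hv hw =>
    obtain ⟨k, x, rfl⟩ := hv
    obtain ⟨l, y, rfl⟩ := hw
    obtain ⟨x', hx⟩ := lift_le K (le_max_left k l) n x
    obtain ⟨y', hy⟩ := lift_le K (le_max_right k l) n y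
    exact ⟨max k l, x' + y', by rw [mapDomain_add, hx, hy]⟩
  | single g r =>
    obtain ⟨k, e, rfl⟩ := exists_gen K n g
    exact ⟨k, single e r, mapDomain_single⟩

lemma lc_dGen (k : ℕ) (n : ℤ) (x : (stage K k).Gen n →₀ A) :
    linearCombination A (dGen K n) (mapDomain (incl K k n) x) =
      mapDomain (incl K k (n + 1)) (linearCombination A ((stage K k).d n) x) :=
  lc_mapDomain _ _ _ (lmapDomain A A (incl K k (n + 1))) (dGen_incl K k n) x

lemma lc_fGen (k : ℕ) (n : ℤ) (x : (stage K k).Gen n →₀ A) :
    linearCombination A (fGen K n) (mapDomain (incl K k n) x) = linearCombination A ((stage K k).f n) x :=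
  lc_mapDomain _ _ _ LinearMap.id (fGen_incl K k n) x

/-- the semi-free complex -/
def res : CochainComplex (ModuleCat.{u} A) ℤ :=
  CochainComplex.of (fun n => ModuleCat.of A (Gen K n →₀ A)) (fun n => ModuleCat.ofHom (linearCombination A (dGen K n)))
    fun n => by
      refine ModuleCat.hom_ext (Finsupp.lhom_ext' fun g => LinearMap.ext_ring ?_)
      obtain ⟨k, e, rfl⟩ := exists_gen K n g
      change linearCombination A (dGen K (n + 1)) (linearCombination A (dGen K n) (single (incl K k n e) 1)) = 0
      rw [linearCombination_single, one_smul, dGen_incl, lc_dGen, (stage K k).d_d, mapDomain_zero]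

/-- elements of `res K` as finitely supported functions -/
abbrev el (n : ℤ) (x : Gen K n →₀ A) : (res K).X n := x

lemma res_d_apply (n : ℤ) (x : Gen K n →₀ A) :
    ((res K).d n (n + 1)).hom (el K n x) = linearCombination A (dGen K n) x := by
  simp [res, el]
  rfl

lemma res_d_single (n : ℤ) (g : Gen K n) : ((res K).d n (n + 1)).hom (el K n (single g 1)) = el K (n + 1) (dGen K n g) :=
  (res_d_apply K n _).trans ((linearCombination_single A (v := dGen K n) (1 : A) g).trans (one_smul A (dGen K n g)))

lemma lc_single {α : Type u} {M : Type u} [AddCommGroup M] [Module A M] (v : α → M) (a : α) :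
    linearCombination A v (single a (1 : A)) = v a := (linearCombination_single _ _ _).trans (one_smul _ _)

/-- the augmentation -/
def π : res K ⟶ K where
  f n := ModuleCat.ofHom (linearCombination A (fGen K n))
  comm' i j hij := by
    obtain rfl : i + 1 = j := hij
    refine ModuleCat.hom_ext (Finsupp.lhom_ext' fun g => LinearMap.ext_ring ?_)
    obtain ⟨k, e, rfl⟩ := exists_gen K i g
    change (K.d i (i + 1)).hom (linearCombination A (fGen K i) (single (incl K k i e) 1)) =
      linearCombination A (fGen K (i + 1)) (((res K).d i (i + 1)).hom (el K i (single (incl K k i e) 1)))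
    rw [res_d_apply, linearCombination_single, linearCombination_single, one_smul, one_smul, fGen_incl, dGen_incl,
      lc_fGen, (stage K k).comm]

instance projective_res_X (n : ℤ) : Projective ((res K).X n) :=
  ModuleCat.projective_of_free (M := ModuleCat.of A (Gen K n →₀ A)) Finsupp.basisSingleOne

theorem quasiIso_of_elements {S₁ S₂ : ShortComplex (ModuleCat.{u} A)} (φ : S₁ ⟶ S₂)
    (hinj : ∀ z, S₁.g z = 0 → (∃ y, S₂.f y = φ.τ₂ z) → ∃ x, S₁.f x = z)
    (hsurj : ∀ w, S₂.g w = 0 → ∃ z, S₁.g z = 0 ∧ φ.τ₂ z = w) : ShortComplex.QuasiIso φ := by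
  let φK : LinearMap.ker S₁.g.hom →ₗ[A] LinearMap.ker S₂.g.hom :=
    (φ.τ₂.hom ∘ₗ (LinearMap.ker S₁.g.hom).subtype).codRestrict _ fun z => by
      change S₂.g.hom (φ.τ₂.hom z.1) = 0
      exact (ConcreteCategory.congr_hom φ.comm₂₃ z.1).trans ((congrArg φ.τ₃.hom z.2).trans (map_zero _))
  have hle : LinearMap.range S₁.moduleCatToCycles ≤ (LinearMap.range S₂.moduleCatToCycles).comap φK := by
    rintro _ ⟨x, rfl⟩
    exact ⟨φ.τ₁.hom x, Subtype.ext (ConcreteCategory.congr_hom φ.comm₁₂ x)⟩
  let ψ : ShortComplex.LeftHomologyMapData φ S₁.moduleCatLeftHomologyData S₂.moduleCatLeftHomologyData :=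
    { φK := ModuleCat.ofHom φK
      φH := ModuleCat.ofHom (Submodule.mapQ _ _ φK hle)
      commi := rfl
      commf' := ModuleCat.hom_ext (LinearMap.ext fun x => Subtype.ext (ConcreteCategory.congr_hom φ.comm₁₂ x).symm)
      commπ := rfl }
  rw [ψ.quasiIso_iff, ConcreteCategory.isIso_iff_bijective]
  refine ⟨(injective_iff_map_eq_zero _).2 fun c hc => ?_, fun c => ?_⟩
  · obtain ⟨⟨z, hz⟩, rfl⟩ := Submodule.Quotient.mk_surjective _ c
    obtain ⟨y, hy⟩ := (Submodule.Quotient.mk_eq_zero _).1 hc
    obtain ⟨x, hx⟩ := hinj z hz ⟨y, congrArg Subtype.val hy⟩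
    exact (Submodule.Quotient.mk_eq_zero _).2 ⟨x, Subtype.ext hx⟩
  · obtain ⟨⟨w, hw⟩, rfl⟩ := Submodule.Quotient.mk_surjective _ c
    obtain ⟨z, hz, hzw⟩ := hsurj w hw
    exact ⟨Submodule.Quotient.mk ⟨z, hz⟩, congrArg Submodule.Quotient.mk (Subtype.ext hzw : φK ⟨z, hz⟩ = ⟨w, hw⟩)⟩

theorem quasiIso_π : QuasiIso (π K) := by
  refine ⟨fun i => ?_⟩
  obtain ⟨m, rfl⟩ : ∃ m, m + 1 = i := ⟨i - 1, sub_add_cancel i 1⟩
  rw [quasiIsoAt_iff' (π K) m (m + 1) (m + 1 + 1) (by simp) (by simp)]
  refine quasiIso_of_elements _ (fun z hz ⟨y, hy⟩ => ?_) fun w hw => ?_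
  · obtain ⟨k, x, rfl⟩ := exists_rep K (m + 1) z
    replace hz : linearCombination A (dGen K (m + 1)) (mapDomain (incl K k (m + 1)) x) = 0 :=
      (res_d_apply K (m + 1) _).symm.trans hz
    obtain ⟨y', hy'⟩ : ∃ y' : K.X m,
        (K.d m (m + 1)).hom y' = linearCombination A (fGen K (m + 1)) (mapDomain (incl K k (m + 1)) x) := ⟨y, hy⟩
    rw [lc_dGen] at hz
    rw [lc_fGen] at hy'
    have hx : linearCombination A ((stage K k).d (m + 1)) x = 0 :=
      mapDomain_injective (incl_injective K k (m + 1 + 1)) (hz.trans mapDomain_zero.symm)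
    exact ⟨el K m (single (gNew K k ⟨(x, y'), hx, hy'.symm⟩) 1), res_d_single K m _⟩
  · refine ⟨el K (m + 1) (single (gInit K w hw) 1), res_d_single K (m + 1) _, ?_⟩
    exact lc_single (fGen K (m + 1)) _

section Homotopy

variable {K} {L : CochainComplex (ModuleCat.{u} A) ℤ}

/-- values of a null homotopy on the generators of a stage -/
abbrev HData (L : CochainComplex (ModuleCat.{u} A) ℤ) (S : Stage K) := ∀ n m : ℤ, S.Gen n → L.X m

/-- the equation of a null homotopy of `g` on a stage -/
def HSpec (g : res K ⟶ L) (k : ℕ) (h : HData L (stage K k)) : Prop :=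
  ∀ (m n : ℤ), m + 1 = n → ∀ e : (stage K k).Gen n,
    (L.d m n).hom (h n m e) + linearCombination A (h (n + 1) n) ((stage K k).d n e) =
      (g.f n).hom (el K n (single (incl K k n e) 1))

lemma exists_d_eq (hL : L.Acyclic) {m n : ℤ} (hmn : m + 1 = n) (c : L.X n) (hc : (L.d n (n + 1)).hom c = 0) :
    ∃ b, (L.d m n).hom b = c := by
  have h := hL n
  rw [L.exactAt_iff' m n (n + 1) (by simp; omega) (by simp), ShortComplex.moduleCat_exact_iff] at h
  exact h c hc

lemma exists_init (g : res K ⟶ L) (hL : L.Acyclic) : ∃ h : HData L (stage K 0), HSpec g 0 h := by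
  have key : ∀ (n m : ℤ) (e : (stage K 0).Gen n), ∃ b : L.X m, m + 1 = n →
      (L.d m n).hom b = (g.f n).hom (el K n (single (incl K 0 n e) 1)) := by
    intro n m e
    by_cases hmn : m + 1 = n
    · have hc : (L.d n (n + 1)).hom ((g.f n).hom (el K n (single (incl K 0 n e) 1))) = 0 := by
        refine (ConcreteCategory.congr_hom (g.comm n (n + 1)) _).trans ?_
        change (g.f (n + 1)).hom (((res K).d n (n + 1)).hom (el K n _)) = 0
        rw [res_d_apply, linearCombination_single, one_smul, dGen_incl]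
        exact (congrArg _ mapDomain_zero).trans (map_zero _)
      obtain ⟨b, hb⟩ := exists_d_eq hL hmn _ hc
      exact ⟨b, fun _ => hb⟩
    · exact ⟨0, fun h => absurd h hmn⟩
  choose h hh using key
  refine ⟨h, fun m n hmn e => ?_⟩
  rw [hh n m e hmn]
  exact (congrArg (_ + ·) (map_zero _)).trans (add_zero _)

lemma exists_extend (g : res K ⟶ L) (hL : L.Acyclic) (k : ℕ) (h : HData L (stage K k)) (hh : HSpec g k h) :
    ∃ h' : HData L (stage K (k + 1)), HSpec g (k + 1) h' ∧ ∀ n m e, h' n m (Sum.inl e) = h n m e := by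
  have key : ∀ (n m : ℤ) (p : New (stage K k) n), ∃ b : L.X m, m + 1 = n →
      (L.d m n).hom b + linearCombination A (h (n + 1) n) p.1.1 =
        (g.f n).hom (el K n (single (gNew K k p) 1)) := by
    intro n m p
    by_cases hmn : m + 1 = n
    · have h1 : (L.d n (n + 1)).hom (linearCombination A (h (n + 1) n) p.1.1) +
          linearCombination A (h (n + 1 + 1) (n + 1)) (linearCombination A ((stage K k).d (n + 1)) p.1.1) =
          (g.f (n + 1)).hom (el K (n + 1) (mapDomain (incl K k (n + 1)) p.1.1)) := by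
        induction p.1.1 using Finsupp.induction_linear with
        | zero => simp only [map_zero, add_zero, mapDomain_zero]; exact (map_zero (g.f (n + 1)).hom).symm
        | add x y hx hy =>
          rw [map_add, map_add, map_add, map_add, mapDomain_add, add_add_add_comm, hx, hy]
          exact (map_add (g.f (n + 1)).hom _ _).symm
        | single e r =>
          rw [linearCombination_single, linearCombination_single, map_smul, map_smul, ← smul_add,
            hh n (n + 1) rfl e, mapDomain_single]
          refine (map_smul (g.f (n + 1)).hom r _).symm.trans (congrArg (g.f (n + 1)).hom ?_)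
          exact smul_single_one _ r
      rw [p.2.1, map_zero, add_zero] at h1
      have hc : (L.d n (n + 1)).hom ((g.f n).hom (el K n (single (gNew K k p) 1)) -
          linearCombination A (h (n + 1) n) p.1.1) = 0 := by
        rw [map_sub, h1, sub_eq_zero]
        refine (ConcreteCategory.congr_hom (g.comm n (n + 1)) _).trans ?_
        exact congrArg (g.f (n + 1)).hom (res_d_single K n (gNew K k p))
      obtain ⟨b, hb⟩ := exists_d_eq hL hmn _ hc
      exact ⟨b, fun _ => by rw [hb, sub_add_cancel]⟩
    · exact ⟨0, fun h => absurd h hmn⟩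
  choose b hb using key
  let h' : HData L (stage K (k + 1)) := fun n m e => Sum.elim (h n m) (b n m) e
  refine ⟨h', fun m n hmn e => ?_, fun _ _ _ => rfl⟩
  have e1 : ∀ x : (stage K k).Gen (n + 1) →₀ A,
      linearCombination A (h' (n + 1) n) (mapDomain Sum.inl x) = linearCombination A (h (n + 1) n) x :=
    fun x => lc_mapDomain (Sum.inl (β := New (stage K k) (n + 1))) (h' (n + 1) n) (h (n + 1) n) LinearMap.id
      (fun _ => rfl) x
  cases e with
  | inl e => exact (congrArg (_ + ·) (e1 _)).trans (hh m n hmn e)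
  | inr p => exact (congrArg (_ + ·) (e1 _)).trans (hb n m p hmn)

instance isKProjective_res : (res K).IsKProjective where
  nonempty_homotopy_zero {L} g hL := by
    choose ext hext using exists_extend g hL
    obtain ⟨h₀, h₀spec⟩ := exists_init g hL
    let hs : ∀ k, {h : HData L (stage K k) // HSpec g k h} :=
      fun k => k.rec (motive := fun k => {h : HData L (stage K k) // HSpec g k h}) ⟨h₀, h₀spec⟩
        fun k hk => ⟨ext k hk.1 hk.2, (hext k hk.1 hk.2).1⟩
    let H : ∀ n m : ℤ, Gen K n → L.X m := fun n m =>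
      Sum.elim (h₀ n m) fun q => (hs (q.1 + 1)).1 n m (Sum.inr q.2)
    have hH : ∀ (k : ℕ) (n m : ℤ) (e : (stage K k).Gen n), H n m (incl K k n e) = (hs k).1 n m e := by
      intro k
      induction k with
      | zero => exact fun _ _ _ => rfl
      | succ k ih =>
        rintro n m (e | p)
        · exact (ih n m e).trans ((hext k (hs k).1 (hs k).2).2 n m e).symm
        · rfl
    let hom : ∀ n m : ℤ, (res K).X n ⟶ L.X m := fun n m =>
      if m + 1 = n then ModuleCat.ofHom (linearCombination A (H n m)) else 0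
    refine ⟨⟨hom, fun i j hij => if_neg fun h => hij h, fun i => ?_⟩⟩
    obtain ⟨m, rfl⟩ : ∃ m, m + 1 = i := ⟨i - 1, sub_add_cancel i 1⟩
    rw [dNext_eq hom (show (ComplexShape.up ℤ).Rel (m + 1) (m + 1 + 1) from rfl),
      prevD_eq hom (show (ComplexShape.up ℤ).Rel m (m + 1) from rfl), HomologicalComplex.zero_f, add_zero]
    simp only [hom, if_pos]
    refine ModuleCat.hom_ext (Finsupp.lhom_ext' fun g' => LinearMap.ext_ring ?_)
    obtain ⟨k, e, rfl⟩ := exists_gen K (m + 1) g'
    refine ((hs k).2 m (m + 1) rfl e).symm.trans ?_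
    refine (add_comm _ _).trans (congrArg₂ (· + ·) ?_ ?_)
    · exact ((congrArg (linearCombination A (H (m + 1 + 1) (m + 1)))
        ((res_d_single K (m + 1) _).trans (dGen_incl K k (m + 1) e))).trans
        (lc_mapDomain (incl K k (m + 1 + 1)) (H (m + 1 + 1) (m + 1)) ((hs k).1 (m + 1 + 1) (m + 1)) LinearMap.id
          (hH k _ _) _)).symm
    · exact congrArg (L.d m (m + 1)).hom ((lc_single (H (m + 1) m) _).trans (hH k (m + 1) m e)).symm

/-- every complex of modules has a K-projective resolution with free terms -/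
theorem exists_kProjective (K : CochainComplex (ModuleCat.{u} A) ℤ) :
    ∃ (P : CochainComplex (ModuleCat.{u} A) ℤ) (π : P ⟶ K),
      P.IsKProjective ∧ (∀ n, Projective (P.X n)) ∧ QuasiIso π :=
  ⟨res K, π K, inferInstance, fun _ => inferInstance, quasiIso_π K⟩

end Homotopy

end Groth.Agent.KProjRes
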